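import Mathlib

/-!
Prime powers of the forms occurring in the classification of groups with all element orders prime powers.
-/

set_option autoImplicit false

namespace Cfsg.Agent.EPPOClass

theorem eq_pow_of_dvd {n p : ℕ} (hp : p.Prime) (h : IsPrimePow n) (hd : p ∣ n) :
    ∃ a, 0 < a ∧ n = p ^ a := by
  obtain ⟨q, k, hq, hk, rfl⟩ := (isPrimePow_nat_iff n).1 h
  exact ⟨k, hk, by rw [(Nat.prime_dvd_prime_iff_eq hp hq).1 (hp.dvd_of_dvd_pow hd)]⟩

theorem three_pow_mod_eight (a : ℕ) : 3 ^ a % 8 = 1 ∨ 3 ^ a % 8 = 3 := by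
  induction a with
  | zero => simp
  | succ a ih => rw [pow_succ, Nat.mul_mod]; rcases ih with h | h <;> rw [h] <;> simp

theorem two_pow_eq_three_pow_add_one {n a : ℕ} (h : 2 ^ n = 3 ^ a + 1) : n = 1 ∨ n = 2 := by
  have h8 := three_pow_mod_eight a
  have h1 : 1 ≤ 3 ^ a := Nat.one_le_pow _ _ (by norm_num)
  rcases n with _ | _ | _ | n
  · rw [pow_zero] at h; omega
  · simp
  · simp
  · exfalso
    rw [show 2 ^ (n + 1 + 1 + 1) = 8 * 2 ^ n by ring] at h
    omega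

theorem two_pow_add_one_eq_three_pow {n a : ℕ} (h : 2 ^ n + 1 = 3 ^ a) : n = 1 ∨ n = 3 := by
  rcases Nat.even_or_odd a with ⟨b, rfl⟩ | ⟨b, rfl⟩
  · right
    have hb : 2 ^ n = (3 ^ b + 1) * (3 ^ b - 1) := by
      rw [← Nat.sq_sub_sq, ← pow_mul, mul_two, ← h]; simp
    have hd : 3 ^ b - 1 ∣ 2 ^ n := hb ▸ dvd_mul_left _ _
    have hd' : 3 ^ b + 1 ∣ 2 ^ n := hb ▸ dvd_mul_right _ _
    obtain ⟨i, -, hi⟩ := (Nat.dvd_prime_pow Nat.prime_two).1 hd
    obtain ⟨j, -, hj⟩ := (Nat.dvd_prime_pow Nat.prime_two).1 hd'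
    rcases two_pow_eq_three_pow_add_one hj.symm with rfl | rfl
    · exfalso
      have : 3 ^ b = 1 := by omega
      rw [this, Nat.sub_self, mul_zero] at hb
      exact absurd hb (by positivity)
    · have h3 : 3 ^ b = 3 := by omega
      rw [h3] at hb
      norm_num at hb
      exact Nat.pow_right_injective le_rfl (hb.trans (by norm_num : 8 = 2 ^ 3))
  · left
    have h8 : 3 ^ (2 * b + 1) % 8 = 3 := by
      rw [pow_succ, pow_mul, Nat.mul_mod, Nat.pow_mod]; norm_num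
    generalize 3 ^ (2 * b + 1) = A at h h8
    rcases n with _ | _ | _ | n
    · rw [pow_zero] at h; omega
    · rfl
    · rw [show (2 : ℕ) ^ (0 + 1 + 1) = 4 by norm_num] at h; omega
    · rw [show 2 ^ (n + 1 + 1 + 1) = 8 * 2 ^ n by ring] at h; omega

theorem two_pow_dvd_exponent : ∀ (j a : ℕ), 2 ^ (j + 2) ∣ 5 ^ a - 1 → 2 ^ j ∣ a := by
  intro j
  induction j with
  | zero => intro a _; simp
  | succ j ih =>
    intro a ha
    rcases Nat.even_or_odd a with ⟨b, rfl⟩ | ⟨b, rfl⟩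
    · have e : 5 ^ (b + b) - 1 = (5 ^ b + 1) * (5 ^ b - 1) := by
        rw [← Nat.sq_sub_sq, ← pow_mul, mul_two, one_pow]
      obtain ⟨c, hc⟩ : ∃ c, 5 ^ b + 1 = 2 * (2 * c + 1) := by
        refine ⟨(5 ^ b + 1) / 4, ?_⟩
        have : 5 ^ b % 4 = 1 := by rw [Nat.pow_mod]; norm_num
        omega
      rw [e, hc, mul_assoc, show 2 ^ (j + 1 + 2) = 2 * 2 ^ (j + 2) by ring] at ha
      have h2 := Nat.dvd_of_mul_dvd_mul_left two_pos ha
      have hco : (2 ^ (j + 2)).Coprime (2 * c + 1) :=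
        Nat.Coprime.pow_left _ ((Nat.prime_two.coprime_iff_not_dvd).2 (by omega))
      have := ih b (hco.dvd_of_dvd_mul_left h2)
      rw [← two_mul, show 2 ^ (j + 1) = 2 * 2 ^ j by ring]
      exact Nat.mul_dvd_mul_left 2 this
    · exfalso
      have h8 : 5 ^ (2 * b + 1) % 8 = 5 := by
        rw [pow_succ, pow_mul, Nat.mul_mod, Nat.pow_mod]; norm_num
      have h3 : 8 ∣ 2 ^ (j + 1 + 2) := ⟨2 ^ j, by ring⟩
      have h' := h3.trans ha
      generalize 5 ^ (2 * b + 1) = A at h' h8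
      omega

theorem lt_two_pow_of_four_le {m : ℕ} : 4 ≤ m → m + 1 < 2 ^ (m - 1) := by
  intro hm
  induction m, hm using Nat.le_induction with
  | base => norm_num
  | succ m hm ih =>
    rw [show m + 1 - 1 = m - 1 + 1 by omega, pow_succ]
    omega

/-- the Suzuki torus orders that are powers of five -/
theorem suzuki_five {m a : ℕ} (hm : 1 ≤ m) (ha : 0 < a)
    (h : 2 ^ (2 * m + 1) + 2 ^ (m + 1) + 1 = 5 ^ a ∨ 2 ^ (2 * m + 1) - 2 ^ (m + 1) + 1 = 5 ^ a) : m ≤ 2 := by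
  have hle : 2 ^ (m + 1) ≤ 2 ^ (2 * m + 1) := Nat.pow_le_pow_right two_pos (by omega)
  have hdd : 2 ^ (m + 1) ∣ 2 ^ (2 * m + 1) := pow_dvd_pow 2 (by omega)
  have hdiv : 2 ^ (m - 1 + 2) ∣ 5 ^ a - 1 := by
    rw [show m - 1 + 2 = m + 1 by omega]
    rcases h with h | h <;> rw [← h, Nat.add_sub_cancel]
    · exact hdd.add dvd_rfl
    · exact Nat.dvd_sub hdd dvd_rfl
  have hd := Nat.le_of_dvd ha (two_pow_dvd_exponent _ _ hdiv)
  have h4 : 4 ^ a < 5 ^ a := Nat.pow_lt_pow_left (by norm_num) ha.ne'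
  have hub : 5 ^ a < 2 ^ (2 * m + 2) + 2 := by
    rw [pow_succ 2 (2 * m + 1)]
    rcases h with h | h <;> omega
  have hlt : 2 * a < 2 * m + 3 := by
    by_contra hge
    have h2 := Nat.pow_le_pow_right (n := 2) two_pos (not_lt.1 hge)
    rw [pow_succ, pow_mul 2 2 a, show (2 : ℕ) ^ 2 = 4 from rfl] at h2
    have : 4 ≤ 2 ^ (2 * m + 2) := by
      calc 4 = 2 ^ 2 := rfl
        _ ≤ _ := Nat.pow_le_pow_right two_pos (by omega)
    omega
  by_contra hm2
  rcases eq_or_lt_of_le (show 3 ≤ m by omega) with rfl | h3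
  · norm_num at hd
    have h625 : 5 ^ 4 ≤ 5 ^ a := Nat.pow_le_pow_right (by norm_num) hd
    norm_num at h h625
    omega
  · have := lt_two_pow_of_four_le (m := m) h3
    omega

end Cfsg.Agent.EPPOClass
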