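import Cfsg.Agent.EPPOClass.Arith
import Cfsg.Agent.S3992

/-!
Normalisers of subgroups of prime order and normal subgroups in groups with all element orders prime powers.
-/

set_option autoImplicit false
set_option linter.style.haveILetI false
set_option linter.unusedSectionVars false

open Subgroup

namespace Cfsg.Agent.EPPOClass

variable {G : Type*} [Group G] [Finite G]

theorem normalizer_card (h : S3992.EPPO G) {p : ℕ} (hp : p.Prime) {P : Subgroup G} (hP : Nat.card P = p) :
    ∃ j d : ℕ, Nat.card ↥(normalizer (P : Set G)) = p ^ j * d ∧ d ∣ p - 1 ∧ (d = 1 ∨ IsPrimePow d) := by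
  classical
  haveI := Fact.mk hp
  haveI : IsCyclic P := isCyclic_of_prime_card hP
  set φ := normalizerMonoidHom P with hφ
  have hker : IsPGroup p φ.ker := by
    intro g
    obtain ⟨x, hx⟩ := exists_prime_orderOf_dvd_card' (G := P) p (dvd_of_eq hP.symm)
    have hg : ((g : normalizer (P : Set G)) : G) ∈ centralizer (P : Set G) :=
      (SetLike.ext_iff.1 (normalizerMonoidHom_ker (H := P)) g.1).1 g.2
    set c : G := ((g : normalizer (P : Set G)) : G) with hcdef
    have hc : Commute (x : G) c := mem_centralizer_iff.1 hg x x.2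
    rcases eq_or_ne c 1 with hc1 | hc1
    · exact ⟨0, by rw [pow_zero, pow_one]; exact Subtype.ext (Subtype.ext hc1)⟩
    obtain ⟨q, i, hq, hi, hqi⟩ := (isPrimePow_nat_iff _).1 (h c hc1)
    by_cases hqp : q = p
    · refine ⟨i, Subtype.ext (Subtype.ext ?_)⟩
      show c ^ p ^ i = 1
      rw [← hqp, hqi, pow_orderOf_eq_one]
    · exact (h.no_commute hp hq (Ne.symm hqp) (i := 1) (by rw [pow_one, Subgroup.orderOf_coe, hx]) one_ne_zero
        hqi.symm hi.ne' hc).elim
  obtain ⟨j, hj⟩ := IsPGroup.iff_card.1 hker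
  haveI : IsCyclic (MulAut P) := by
    haveI : Fact (Nat.card P).Prime := ⟨hP ▸ hp⟩
    exact isCyclic_of_surjective (IsCyclic.mulAutMulEquiv (G := ↥P)).symm.toMonoidHom (MulEquiv.surjective _)
  refine ⟨j, Nat.card φ.range, ?_, ?_, ?_⟩
  · rw [← φ.ker.card_mul_index, index_ker, hj]
  · have := φ.range.card_subgroup_dvd_card
    rwa [IsCyclic.card_mulAut, hP, Nat.totient_prime hp] at this
  · obtain ⟨σ, hσ⟩ := IsCyclic.exists_generator (α := φ.range)
    obtain ⟨g, hg⟩ := σ.2
    have ho : orderOf σ = Nat.card φ.range := orderOf_eq_card_of_forall_mem_zpowers hσ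
    have hd : orderOf σ ∣ orderOf (g : G) := by
      rw [← Subgroup.orderOf_coe σ, ← hg, Subgroup.orderOf_coe]
      exact orderOf_map_dvd φ g
    rw [← ho]
    by_cases hσ1 : orderOf σ = 1
    · exact Or.inl hσ1
    refine Or.inr ?_
    have hg1 : (g : G) ≠ 1 := fun e => hσ1 (Nat.dvd_one.1 (by rwa [e, orderOf_one] at hd))
    exact IsPrimePow.dvd (h _ hg1) hd hσ1

theorem card_normalizer_frattini (M : Subgroup G) [M.Normal] (p : ℕ) [Fact p.Prime] (P : Sylow p M) :
    Nat.card ↥(normalizer ((P : Subgroup M).map M.subtype : Set G)) =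
      M.index * Nat.card ↥(normalizer (P : Set M)) := by
  set N := normalizer ((P : Subgroup M).map M.subtype : Set G) with hN
  have h1 : M.relIndex N = M.index := by
    rw [← relIndex_sup_right, P.normalizer_sup_eq_top, relIndex_top_right]
  have h2 : (M ⊓ N) = (normalizer (P : Set M)).map M.subtype := by
    ext g
    constructor
    · intro hg
      refine ⟨⟨g, hg.1⟩, mem_normalizer_iff.2 fun y => ?_, rfl⟩
      have hgN := mem_normalizer_iff.1 hg.2 (y : G)
      constructor
      · intro hy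
        obtain ⟨w, hw, e⟩ := hgN.1 ⟨y, hy, rfl⟩
        rwa [show (⟨g, hg.1⟩ : M) * y * (⟨g, hg.1⟩ : M)⁻¹ = w from Subtype.ext e.symm]
      · intro hy
        obtain ⟨w, hw, e⟩ := hgN.2 ⟨_, hy, rfl⟩
        exact (M.subtype_injective e) ▸ hw
    · rintro ⟨x, hx, rfl⟩
      refine mem_inf.2 ⟨x.2, mem_normalizer_iff.2 fun y => ⟨?_, ?_⟩⟩
      · rintro ⟨w, hw, rfl⟩
        exact ⟨_, (mem_normalizer_iff.1 hx w).1 hw, rfl⟩
      · rintro ⟨w, hw, e⟩
        refine ⟨x⁻¹ * w * x, ?_, ?_⟩
        · have := (mem_normalizer_iff.1 (inv_mem hx) w).1 hw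
          rwa [inv_inv] at this
        · show (x : G)⁻¹ * (w : G) * x = y
          rw [show (w : G) = x * y * (x : G)⁻¹ from e]
          group
  rw [← relIndex_bot_left N, ← relIndex_mul_relIndex ⊥ (M ⊓ N) N bot_le inf_le_right, inf_relIndex_right, h1,
    relIndex_bot_left, h2, card_map_of_injective M.subtype_injective, mul_comm]

theorem sylow_card (p r : ℕ) [hp : Fact p.Prime] {M : Type*} [Group M] [Finite M] (hcard : Nat.card M = p * r)
    (hr : ¬ p ∣ r) (P : Sylow p M) : Nat.card P = p := by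
  have h1 := P.dvd_card_of_dvd_card (hcard ▸ dvd_mul_right p r)
  obtain ⟨i, hi⟩ := P.isPGroup'.exists_card_eq
  rcases i with _ | _ | i
  · rw [hi, pow_zero, Nat.dvd_one] at h1; exact absurd h1 hp.out.ne_one
  · rw [hi, pow_one]
  · exfalso
    have h2 : p * p ∣ p * r := hcard ▸ dvd_trans ⟨p ^ i, by rw [hi]; ring⟩ (P : Subgroup M).card_subgroup_dvd_card
    exact hr (Nat.dvd_of_mul_dvd_mul_left hp.out.pos h2)

/-- the normaliser of a Sylow subgroup of prime order is determined by the group order -/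
theorem sylow_normalizer (h : S3992.EPPO G) (p r d₀ : ℕ) [hp : Fact p.Prime] (hcard : Nat.card G = p * r)
    (hr : ¬ p ∣ r) (huniq : ∀ d ∈ Finset.range p, d ∣ p - 1 → d ∣ r → r / d % p = 1 → d = d₀) (P : Sylow p G) :
    Nat.card ↥(normalizer (P : Set G)) = p * d₀ := by
  have hP := sylow_card p r hcard hr P
  obtain ⟨j, d, hN, hd, -⟩ := normalizer_card h hp.out (P := (P : Subgroup G)) hP
  replace hN : Nat.card ↥(normalizer (P : Set G)) = p ^ j * d := hN
  have hpN : p ∣ Nat.card ↥(normalizer (P : Set G)) :=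
    (dvd_of_eq hP.symm).trans (card_dvd_of_le (le_normalizer (H := (P : Subgroup G))))
  have hp1 : 0 < p - 1 := Nat.sub_pos_of_lt hp.out.one_lt
  have hdp : ¬ p ∣ d := fun hh => by
    have := Nat.le_of_dvd hp1 (hh.trans hd)
    omega
  rw [hN] at hpN
  have hNd : p ^ j * d ∣ p * r := hN ▸ hcard ▸ card_subgroup_dvd_card _
  rcases j with _ | _ | j
  · rw [pow_zero, one_mul] at hpN; exact absurd hpN hdp
  · rw [zero_add, pow_one] at hNd hN
    have hdr := Nat.dvd_of_mul_dvd_mul_left hp.out.pos hNd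
    have hdle := Nat.le_of_dvd hp1 hd
    have hd0 : 0 < d := Nat.pos_of_dvd_of_pos hd hp1
    have hidx := P.card_eq_index_normalizer
    have hmul := (normalizer (P : Set G)).card_mul_index
    rw [← hidx, hcard, hN, mul_assoc] at hmul
    have hn : d * Nat.card (Sylow p G) = r := Nat.eq_of_mul_eq_mul_left hp.out.pos hmul
    have hmod : r / d % p = 1 := by
      rw [← hn, Nat.mul_div_cancel_left _ hd0]
      exact Eq.trans (card_sylow_modEq_one p G) (Nat.mod_eq_of_lt hp.out.one_lt)
    rw [hN, huniq d (Finset.mem_range.2 (by omega)) hd hdr hmod]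
  · exfalso
    exact hr (Nat.dvd_of_mul_dvd_mul_left hp.out.pos
      ((show p * p ∣ p ^ (j + 1 + 1) * d from ⟨p ^ j * d, by ring⟩).trans hNd))

/-- the primes of the index of a normal subgroup with such a Sylow normaliser -/
theorem index_primes (h : S3992.EPPO G) (M : Subgroup G) [M.Normal] {p : ℕ} [hp : Fact p.Prime] (P : Sylow p M)
    (hP : Nat.card P = p) {q b : ℕ} (hq : q.Prime) (hqp : q ≠ p) (hb : 0 < b)
    (hN : Nat.card ↥(normalizer (P : Set M)) = p * q ^ b) {r : ℕ} (hr : r.Prime) (hrk : r ∣ M.index) :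
    r = p ∨ (r = q ∧ q ^ (b + 1) ∣ p - 1) := by
  obtain ⟨j, e, hNG, he, hpp⟩ := normalizer_card h hp.out
    (P := (P : Subgroup M).map M.subtype) (by rw [card_map_of_injective M.subtype_injective]; exact hP)
  rw [card_normalizer_frattini M p P, hN] at hNG
  have hqe : q ∣ e := by
    have hd : q ∣ p ^ j * e := hNG ▸ ((dvd_pow_self q hb.ne').mul_left p).mul_left _
    refine (hq.dvd_mul.1 hd).resolve_left fun hh => hqp ?_
    exact (Nat.prime_dvd_prime_iff_eq hq hp.out).1 (hq.dvd_of_dvd_pow hh)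
  rcases hpp with rfl | hpp
  · exact absurd (Nat.dvd_one.1 hqe) hq.ne_one
  obtain ⟨c, hc, rfl⟩ := eq_pow_of_dvd hq hpp hqe
  by_cases hrp : r = p
  · exact Or.inl hrp
  have hco : ∀ i, ¬ r ∣ p ^ i := fun i hh =>
    hrp ((Nat.prime_dvd_prime_iff_eq hr hp.out).1 (hr.dvd_of_dvd_pow hh))
  have hrq : r = q := by
    have hd : r ∣ p ^ j * q ^ c := hNG ▸ hrk.mul_right _
    exact (Nat.prime_dvd_prime_iff_eq hr hq).1 (hr.dvd_of_dvd_pow ((hr.dvd_mul.1 hd).resolve_left (hco j)))
  refine Or.inr ⟨hrq, ?_⟩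
  subst hrq
  refine (pow_dvd_pow r ?_).trans he
  have hd : r ^ (b + 1) ∣ p ^ j * r ^ c := by
    rw [← hNG, pow_succ']
    exact (Nat.mul_dvd_mul hrk (dvd_mul_left (r ^ b) p))
  have := (Nat.Coprime.pow (b + 1) j ((Nat.coprime_primes hr hp.out).2 hrp)).dvd_of_dvd_mul_left hd
  exact (Nat.pow_dvd_pow_iff_le_right hr.one_lt).1 this

/-- a prime outside a normal subgroup acts fixed-point-freely on each of its Sylow subgroups -/
theorem outer_prime (h : S3992.EPPO G) (M : Subgroup G) [M.Normal] {p : ℕ} [hp : Fact p.Prime] (P : Sylow p M)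
    {r : ℕ} (hr : r.Prime) (hrM : ¬ r ∣ Nat.card M) (hrG : r ∣ Nat.card G) : r ∣ Nat.card P - 1 := by
  classical
  haveI := Fact.mk hr
  have hidx : r ∣ M.index := by
    rw [← M.card_mul_index] at hrG
    exact (hr.dvd_mul.1 hrG).resolve_left hrM
  set N := normalizer ((P : Subgroup M).map M.subtype : Set G) with hN
  obtain ⟨x, hx⟩ := exists_prime_orderOf_dvd_card' (G := N) r (by
    rw [card_normalizer_frattini M p P]; exact hidx.mul_right _)
  set Q := (P : Subgroup M).map M.subtype with hQ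
  let f : zpowers x →* MulAut Q := (normalizerMonoidHom Q).comp (zpowers x).subtype
  letI : MulAction (zpowers x) Q := MulAction.compHom Q f
  have hxr : IsPGroup r (zpowers x) := IsPGroup.of_card (n := 1) (by rw [Nat.card_zpowers, hx, pow_one])
  have hmod := hxr.card_modEq_card_fixedPoints Q
  have hfix : MulAction.fixedPoints (zpowers x) Q = {1} := by
    ext y
    constructor
    · intro hy
      have h1 := hy ⟨x, mem_zpowers x⟩
      have hc : Commute (x : G) y := mul_inv_eq_iff_eq_mul.1 (congrArg Subtype.val h1)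
      by_contra hy1
      have hy1' : (y : G) ≠ 1 := fun e => hy1 (Subtype.ext e)
      obtain ⟨s, i, hs, hi, hsi⟩ := (isPrimePow_nat_iff _).1 (h _ hy1')
      refine h.no_commute hr hs (fun e => hrM ?_) (i := 1) (by rw [pow_one, Subgroup.orderOf_coe, hx]) one_ne_zero
        hsi.symm hi.ne' hc
      subst e
      have hyM : (y : G) ∈ M := map_subtype_le _ y.2
      exact (dvd_pow_self r hi.ne').trans (hsi ▸ Subgroup.orderOf_mk (y : G) hyM ▸
        orderOf_dvd_natCard (⟨(y : G), hyM⟩ : M))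
    · rintro rfl g
      exact map_one (f g)
  rw [hfix, Nat.card_coe_set_eq, Set.ncard_singleton, hQ, card_map_of_injective M.subtype_injective] at hmod
  exact (Nat.modEq_iff_dvd' (Nat.one_le_iff_ne_zero.2 Nat.card_pos.ne')).1 hmod.symm

end Cfsg.Agent.EPPOClass
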