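import Cfsg.Agent.EPPOClass.Simple
import Cfsg.Agent.EPPOClass.Outer
import Cfsg.Agent.CyclicZ.Like
import Cfsg.Agent.S0254

/-!
Groups with all element orders prime powers, given the classification of simple CIT-groups.
-/

set_option autoImplicit false
set_option linter.style.haveILetI false
set_option linter.unusedSectionVars false

open Subgroup

namespace Cfsg.Agent.EPPOClass

universe u

theorem not_uniqueOrd {M : Type*} [Group M] [Finite M] [IsSimpleGroup M] (hna : ∃ a b : M, a * b ≠ b * a) :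
    ¬ S3992.UniqueOrd M 2 := by
  intro hu
  obtain ⟨E, hE⟩ := Cfsg.Agent.S0204.result (G := M) fun hc => by
    obtain ⟨a, b, hab⟩ := hna
    exact hab ((IsCyclic.commGroup (α := M)).mul_comm a b)
  have h4 := hE.card_four
  have hord : ∀ x : E, x ≠ 1 → orderOf (x : M) = 2 := fun x hx =>
    Invol.klein_orderOf hE x.2 fun e => hx (Subtype.ext e)
  haveI : Nontrivial E := Finite.one_lt_card_iff_nontrivial.1 (by omega)
  obtain ⟨a, ha⟩ := exists_ne (1 : E)
  obtain ⟨b, hb, hba⟩ : ∃ b : E, b ≠ 1 ∧ b ≠ a := by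
    by_contra! hall
    have : Nat.card E ≤ 2 := by
      rw [← Set.ncard_univ, ← Set.ncard_pair ha.symm]
      exact Set.ncard_le_ncard (fun v _ => (em (v = 1)).elim Or.inl fun hv => Or.inr (hall v hv))
    omega
  have hmem := hu a b (hord a ha) (hord b hb) (congrArg Subtype.val (mul_comm_of_exponent_two hE.exponent_two a b))
  obtain ⟨n, hn⟩ := mem_zpowers_iff.1 hmem
  rw [← zpow_mod_orderOf, hord a ha] at hn
  rcases Int.emod_two_eq_zero_or_one n with h0 | h0 <;> rw [Nat.cast_ofNat, h0] at hn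
  · rw [zpow_zero] at hn
    exact hb (Subtype.ext hn.symm)
  · rw [zpow_one] at hn
    exact hba (Subtype.ext hn.symm)

theorem subset_insert_of_dvd {n p : ℕ} {S : Finset ℕ} (hp : p.Prime)
    (h : ∀ r : ℕ, r.Prime → r ∣ n → r ∈ S) (k : ℕ) :
    ∀ r : ℕ, r.Prime → r ∣ p ^ k * n → r ∈ insert p S := by
  intro r hr hd
  rcases hr.dvd_mul.1 hd with h' | h'
  · exact Finset.mem_insert.2 (Or.inl ((Nat.prime_dvd_prime_iff_eq hr hp).1 (hr.dvd_of_dvd_pow h')))
  · exact Finset.mem_insert_of_mem (h r hr h')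

theorem card_le_of_subset {n : ℕ} {S : Finset ℕ} (h : ∀ r : ℕ, r.Prime → r ∣ n → r ∈ S) :
    n.primeFactors.card ≤ S.card :=
  Finset.card_le_card fun r hr => h r (Nat.mem_primeFactors.1 hr).1 (Nat.mem_primeFactors.1 hr).2.1

theorem primes_one : ∀ r : ℕ, r.Prime → r ∣ 1 → r ∈ (∅ : Finset ℕ) := fun _ hr hd =>
  absurd (Nat.dvd_one.1 hd) hr.ne_one

theorem ringEquiv_sz_card {F : Type} [Field F] [Fintype F] {m : ℕ} (hm : 1 ≤ m)
    (hF : Fintype.card F = 2 ^ (2 * m + 1)) :
    Nat.card ↥(Cfsg.Lie.Sz F (2 ^ (m + 1))) =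
      (2 ^ (2 * m + 1)) ^ 2 * (2 ^ (2 * m + 1) - 1) * ((2 ^ (2 * m + 1)) ^ 2 + 1) := by
  obtain ⟨f⟩ := Suzuki.nonempty_equiv hm hF
  rw [← Nat.card_congr f.toEquiv, Suzuki.card_sz hm hF, Nat.card_eq_fintype_card, hF]

/-- the numerical consequences of the list -/
theorem SimpleList.cases {T : Type u} [Group T] (h : SimpleList T) :
    ((Nat.card T = 60 ∨ Nat.card T = 168 ∨ Nat.card T = 504 ∨ Nat.card T = 360 ∨ Nat.card T = 2448)) ∨
      (Nat.card T = 20160 ∧ ∃ (F : Type) (_ : Field F) (_ : Fintype F), Fintype.card F = 4 ∧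
        Nonempty (T ≃* Matrix.ProjectiveSpecialLinearGroup (Fin 3) F)) ∨
      ((Nat.card T = 29120 ∨ Nat.card T = 32537600) ∧ ∃ (F : Type) (_ : Field F) (_ : Fintype F),
        (Fintype.card F = 8 ∧ Nonempty (T ≃* ↥(Cfsg.Lie.Sz F 4))) ∨
          (Fintype.card F = 32 ∧ Nonempty (T ≃* ↥(Cfsg.Lie.Sz F 8)))) := by
  rcases h with ⟨F, iF, iFF, hF, ⟨e⟩⟩ | ⟨F, iF, iFF, hF, ⟨e⟩⟩ | ⟨F, iF, iFF, hFe⟩
  · left
    have hc := CITSolv.card_psl_two (F := F) (q := Fintype.card F) rfl
    rw [← Nat.card_congr e.toEquiv] at hc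
    simp only [Finset.mem_insert, Finset.mem_singleton] at hF
    rcases hF with h | h | h | h | h <;> rw [h] at hc <;> norm_num at hc <;> omega
  · exact Or.inr (Or.inl ⟨(Nat.card_congr e.toEquiv).trans (PrimeGraphCIT.card_psl_three_four hF),
      F, iF, iFF, hF, ⟨e⟩⟩)
  · refine Or.inr (Or.inr ⟨?_, F, iF, iFF, hFe⟩)
    rcases hFe with ⟨h8, ⟨e⟩⟩ | ⟨h32, ⟨e⟩⟩
    · refine Or.inl ((Nat.card_congr e.toEquiv).trans ?_)
      exact (ringEquiv_sz_card (F := F) (m := 1) le_rfl (by rw [h8]; norm_num)).trans (by norm_num)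
    · refine Or.inr ((Nat.card_congr e.toEquiv).trans ?_)
      exact (ringEquiv_sz_card (F := F) (m := 2) (by norm_num) (by rw [h32]; norm_num)).trans (by norm_num)

/-- a simple normal subgroup of one of the four-prime orders is everything -/
theorem eq_top_of_card {Q : Type u} [Group Q] [Finite Q] (h : S3992.EPPO Q) (M : Subgroup Q) [M.Normal]
    (hc : Nat.card M = 20160 ∨ Nat.card M = 29120 ∨ Nat.card M = 32537600) : M = ⊤ := by
  classical
  have hM : S3992.EPPO M := h.subgroup M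
  by_contra hne
  obtain ⟨r, hr, hrk⟩ := Nat.exists_prime_and_dvd (fun e => hne (index_eq_one.1 e))
  rcases hc with hc | hc | hc
  · haveI : Fact (Nat.Prime 7) := ⟨by norm_num⟩
    haveI : Fact (Nat.Prime 5) := ⟨by norm_num⟩
    let P : Sylow 7 M := default
    let P' : Sylow 5 M := default
    have hP := sylow_normalizer hM 7 2880 3 (by rw [hc]) (by norm_num) (by decide) P
    have hP' := sylow_normalizer hM 5 4032 2 (by rw [hc]) (by norm_num) (by decide) P'
    rcases index_primes h M P (sylow_card 7 2880 (by rw [hc]) (by norm_num) P) Nat.prime_three (by norm_num)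
        one_pos (by rw [pow_one]; exact hP) hr hrk with rfl | ⟨-, hd⟩
    · rcases index_primes h M P' (sylow_card 5 4032 (by rw [hc]) (by norm_num) P') Nat.prime_two (by norm_num)
          one_pos (by rw [pow_one]; exact hP') hr hrk with e | ⟨e, -⟩ <;> norm_num at e
    · norm_num at hd
  · haveI : Fact (Nat.Prime 7) := ⟨by norm_num⟩
    haveI : Fact (Nat.Prime 13) := ⟨by norm_num⟩
    let P : Sylow 7 M := default
    let P' : Sylow 13 M := default
    have hP := sylow_normalizer hM 7 4160 2 (by rw [hc]) (by norm_num) (by decide) P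
    have hP' := sylow_normalizer hM 13 2240 4 (by rw [hc]) (by norm_num) (by decide) P'
    rcases index_primes h M P (sylow_card 7 4160 (by rw [hc]) (by norm_num) P) Nat.prime_two (by norm_num)
        one_pos (by rw [pow_one]; exact hP) hr hrk with rfl | ⟨-, hd⟩
    · rcases index_primes h M P' (sylow_card 13 2240 (by rw [hc]) (by norm_num) P') Nat.prime_two (by norm_num)
          two_pos (by rw [show (2 : ℕ) ^ 2 = 4 from rfl]; exact hP') hr hrk with e | ⟨e, -⟩ <;> norm_num at e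
    · norm_num at hd
  · haveI : Fact (Nat.Prime 31) := ⟨by norm_num⟩
    haveI : Fact (Nat.Prime 41) := ⟨by norm_num⟩
    let P : Sylow 31 M := default
    let P' : Sylow 41 M := default
    have hP := sylow_normalizer hM 31 1049600 2 (by rw [hc]) (by norm_num) (by decide) P
    have hP' := sylow_normalizer hM 41 793600 4 (by rw [hc]) (by norm_num) (by decide) P'
    rcases index_primes h M P (sylow_card 31 1049600 (by rw [hc]) (by norm_num) P) Nat.prime_two (by norm_num)
        one_pos (by rw [pow_one]; exact hP) hr hrk with rfl | ⟨-, hd⟩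
    · rcases index_primes h M P' (sylow_card 41 793600 (by rw [hc]) (by norm_num) P') Nat.prime_two (by norm_num)
          two_pos (by rw [show (2 : ℕ) ^ 2 = 4 from rfl]; exact hP') hr hrk with e | ⟨e, -⟩ <;> norm_num at e
    · norm_num at hd

/-- no new primes above the socle -/
theorem primes_subset {Q : Type u} [Group Q] [Finite Q] (h : S3992.EPPO Q) (M : Subgroup Q) [M.Normal]
    (p v m : ℕ) [hp : Fact p.Prime] (hv : 0 < v) (hm : Nat.card M = p ^ v * m) (hpm : ¬ p ∣ m)
    (hdvd : p ^ v - 1 ∣ Nat.card M) {r : ℕ} (hr : r.Prime) (hd : r ∣ Nat.card Q) : r ∣ Nat.card M := by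
  by_contra hrM
  let P : Sylow p M := default
  have hP : Nat.card P = p ^ v := by
    rw [P.card_eq_multiplicity, Nat.factorization_def _ hp.out, hm, padicValNat.mul (pow_pos hp.out.pos _).ne'
      (fun e => hpm (by rw [e]; exact dvd_zero p)), padicValNat.prime_pow,
      padicValNat.eq_zero_of_not_dvd hpm, add_zero]
  have hd2 := outer_prime h M P hr hrM hd
  rw [hP] at hd2
  exact hrM (hd2.trans hdvd)

/-- The structure theorem. -/
theorem main
    (hcls : ∀ (T : Type u) [Group T] [Finite T] [IsSimpleGroup T], (∃ a b : T, a * b ≠ b * a) →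
      PrimeGraphCIT.CIT T → PrimeGraphCIT.CITList T)
    {G : Type u} [Group G] [Finite G] (h : S3992.EPPO G) :
    (Nat.card G).primeFactors.card ≤ 4 ∧
    ((Nat.card G).primeFactors.card = 4 →
      (∃ (F : Type) (_ : Field F) (_ : Fintype F), Fintype.card F = 4 ∧
        Nonempty (G ≃* Matrix.ProjectiveSpecialLinearGroup (Fin 3) F)) ∨
      (∃ (N : Subgroup G) (_ : N.Normal), IsPGroup 2 ↥N ∧
        ∃ (F : Type) (_ : Field F) (_ : Fintype F),
          (Fintype.card F = 8 ∧ Nonempty (G ⧸ N ≃* ↥(Cfsg.Lie.Sz F 4))) ∨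
          (Fintype.card F = 32 ∧ Nonempty (G ⧸ N ≃* ↥(Cfsg.Lie.Sz F 8))))) := by
  classical
  by_cases hsol : Group.IsSolvable G
  · have := S3992.primeFactors_le_two (X := G) h
    exact ⟨by omega, fun h4 => by omega⟩
  obtain ⟨R, hRn, hRs, hRmax⟩ := CyclicZ.exists_radical G
  obtain ⟨⟨p, hp, hRp⟩, ⟨M, hMn, hMs, hMna, -⟩, -⟩ := Cfsg.Agent.S3992.result hsol h R hRs hRmax
  haveI := Fact.mk hp
  have hna : ∃ a b : M, a * b ≠ b * a := by
    by_contra! hall
    exact hMna ⟨⟨hall⟩⟩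
  -- the radical is the 2-core
  have hcore : ∀ s : ℕ, s.Prime → Cfsg.pCore s G ≤ R := fun s hs => by
    haveI := Fact.mk hs
    haveI := (Core.pCore_isPGroup (p := s) (G := G)).isNilpotent
    exact hRmax _ Core.pCore_normal inferInstance
  have hR2 : R = Cfsg.pCore 2 G := by
    rcases eq_or_ne R ⊥ with rfl | hR1
    · exact (le_bot_iff.1 (hcore 2 Nat.prime_two)).symm
    by_cases hp2 : p = 2
    · subst hp2
      exact le_antisymm (Core.le_pCore hRp) (hcore 2 hp)
    exfalso
    have hRP : R = Cfsg.pCore p G := le_antisymm (Core.le_pCore hRp) (hcore p hp)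
    subst hRP
    obtain ⟨V, hVn, hVc, φ, hVp, hVnt, hφ⟩ := S3992.exists_core_action h (p := p) hR1
    letI : CommGroup V := { (inferInstance : Group V) with mul_comm := hVc.is_comm.comm }
    exact not_uniqueOrd hna (S3992.uniqueOrd_of_fpf hp Nat.prime_two (Ne.symm hp2) hVp (φ.comp M.subtype)
      fun k hk w hw => hφ (k : G ⧸ Cfsg.pCore p G) 2 Nat.prime_two (Ne.symm hp2)
        (dvd_of_eq (by rw [Subgroup.orderOf_coe, hk])) w hw)
  subst hR2
  haveI := hMn
  have hQ : S3992.EPPO (G ⧸ Cfsg.pCore 2 G) := h.quotient _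
  have hlist := (simple_list hcls hna (hQ.subgroup M)).cases
  obtain ⟨i, hi⟩ := IsPGroup.iff_card.1 (Core.pCore_isPGroup (p := 2) (G := G))
  have hGcard : Nat.card G = 2 ^ i * Nat.card (G ⧸ Cfsg.pCore 2 G) := by
    rw [← hi, ← Subgroup.index_eq_card]
    exact ((Cfsg.pCore 2 G).card_mul_index).symm
  -- primes of the group are primes of the socle
  have hM2 : 2 ∣ Nat.card M := by
    rcases hlist with h' | ⟨h', -⟩ | ⟨h', -⟩ <;> omega
  have hprimes : ∀ r : ℕ, r.Prime → r ∣ Nat.card G → r ∣ Nat.card M := by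
    intro r hr hd
    rw [hGcard] at hd
    rcases hr.dvd_mul.1 hd with hd | hd
    · rw [(Nat.prime_dvd_prime_iff_eq hr Nat.prime_two).1 (hr.dvd_of_dvd_pow hd)]; exact hM2
    haveI : Fact (Nat.Prime 5) := ⟨by norm_num⟩
    haveI : Fact (Nat.Prime 3) := ⟨Nat.prime_three⟩
    haveI : Fact (Nat.Prime 7) := ⟨by norm_num⟩
    haveI : Fact (Nat.Prime 17) := ⟨by norm_num⟩
    haveI : Fact (Nat.Prime 41) := ⟨by norm_num⟩
    rcases hlist with (h' | h' | h' | h' | h') | ⟨h', -⟩ | ⟨h' | h', -⟩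
    · exact primes_subset hQ M 5 1 12 one_pos (by rw [h']; rfl) (by norm_num) (by rw [h']; norm_num) hr hd
    · exact primes_subset hQ M 7 1 24 one_pos (by rw [h']; rfl) (by norm_num) (by rw [h']; norm_num) hr hd
    · exact primes_subset hQ M 3 2 56 two_pos (by rw [h']; rfl) (by norm_num) (by rw [h']; norm_num) hr hd
    · exact primes_subset hQ M 5 1 72 one_pos (by rw [h']; rfl) (by norm_num) (by rw [h']; norm_num) hr hd
    · exact primes_subset hQ M 17 1 144 one_pos (by rw [h']; rfl) (by norm_num) (by rw [h']; norm_num) hr hd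
    · exact primes_subset hQ M 5 1 4032 one_pos (by rw [h']; rfl) (by norm_num) (by rw [h']; norm_num) hr hd
    · exact primes_subset hQ M 5 1 5824 one_pos (by rw [h']; rfl) (by norm_num) (by rw [h']; norm_num) hr hd
    · exact primes_subset hQ M 41 1 793600 one_pos (by rw [h']; rfl) (by norm_num) (by rw [h']; norm_num) hr hd
  have h2 : Nat.Prime 2 := Nat.prime_two
  have h3 : Nat.Prime 3 := Nat.prime_three
  have h5 : Nat.Prime 5 := by norm_num
  have h7 : Nat.Prime 7 := by norm_num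
  rcases hlist with hsmall | ⟨h34, F, iF, iFF, hF, ⟨e⟩⟩ | ⟨hsz, F, iF, iFF, hFe⟩
  · have hle : ∃ S : Finset ℕ, S.card ≤ 3 ∧ ∀ r : ℕ, r.Prime → r ∣ Nat.card M → r ∈ S := by
      rcases hsmall with h' | h' | h' | h' | h' <;> rw [h']
      · exact ⟨_, by decide, show ∀ r : ℕ, r.Prime → r ∣ 2 ^ 2 * (3 ^ 1 * (5 ^ 1 * 1)) → r ∈ _ from
          subset_insert_of_dvd h2 (subset_insert_of_dvd h3 (subset_insert_of_dvd h5 primes_one 1) 1) 2⟩
      · exact ⟨_, by decide, show ∀ r : ℕ, r.Prime → r ∣ 2 ^ 3 * (3 ^ 1 * (7 ^ 1 * 1)) → r ∈ _ from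
          subset_insert_of_dvd h2 (subset_insert_of_dvd h3 (subset_insert_of_dvd h7 primes_one 1) 1) 3⟩
      · exact ⟨_, by decide, show ∀ r : ℕ, r.Prime → r ∣ 2 ^ 3 * (3 ^ 2 * (7 ^ 1 * 1)) → r ∈ _ from
          subset_insert_of_dvd h2 (subset_insert_of_dvd h3 (subset_insert_of_dvd h7 primes_one 1) 2) 3⟩
      · exact ⟨_, by decide, show ∀ r : ℕ, r.Prime → r ∣ 2 ^ 3 * (3 ^ 2 * (5 ^ 1 * 1)) → r ∈ _ from
          subset_insert_of_dvd h2 (subset_insert_of_dvd h3 (subset_insert_of_dvd h5 primes_one 1) 2) 3⟩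
      · exact ⟨_, by decide, show ∀ r : ℕ, r.Prime → r ∣ 2 ^ 4 * (3 ^ 2 * (17 ^ 1 * 1)) → r ∈ _ from
          subset_insert_of_dvd h2 (subset_insert_of_dvd h3
            (subset_insert_of_dvd (by norm_num : Nat.Prime 17) primes_one 1) 2) 4⟩
    obtain ⟨S, hS, hsub⟩ := hle
    have := card_le_of_subset (n := Nat.card G) fun r hr hd => hsub r hr (hprimes r hr hd)
    exact ⟨by omega, fun h4 => by omega⟩
  · refine ⟨?_, fun _ => Or.inl ⟨F, iF, iFF, hF, ?_⟩⟩
    · have := card_le_of_subset (n := Nat.card G) (S := insert 2 (insert 3 (insert 5 (insert 7 ∅)))) fun r hr hd =>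
        (show ∀ r : ℕ, r.Prime → r ∣ 2 ^ 6 * (3 ^ 2 * (5 ^ 1 * (7 ^ 1 * 1))) → r ∈ _ from
          subset_insert_of_dvd h2 (subset_insert_of_dvd h3 (subset_insert_of_dvd h5
            (subset_insert_of_dvd h7 primes_one 1) 1) 2) 6) r hr
          (by norm_num; exact h34 ▸ hprimes r hr hd)
      simpa using this
    have htop := eq_top_of_card hQ M (Or.inl h34)
    -- the core is trivial
    have hcore0 : Cfsg.pCore 2 G = ⊥ := by
      by_contra hW
      obtain ⟨V, hVn, hVc, φ, hVp, hVnt, hφ⟩ := S3992.exists_core_action h (p := 2) hW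
      letI : CommGroup V := { (inferInstance : Group V) with mul_comm := hVc.is_comm.comm }
      haveI : Fact (Nat.Prime 7) := ⟨h7⟩
      let P : Sylow 7 M := default
      set K := normalizer (P : Set M) with hK
      have h21 : Nat.card K = 7 * 3 := sylow_normalizer (hQ.subgroup M) 7 2880 3 (by rw [h34]) (by norm_num) (by decide) P
      haveI : ((P : Subgroup M).subgroupOf K).Normal := normal_in_normalizer
      have hC : Nat.card ↥((P : Subgroup M).subgroupOf K) = 7 := by
        show Nat.card ↥((P : Subgroup M).subgroupOf (normalizer ((P : Subgroup M) : Set M))) = 7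
        rw [Nat.card_congr (subgroupOfEquivOfLe (le_normalizer (H := (P : Subgroup M)))).toEquiv]
        exact sylow_card 7 2880 (by rw [h34]) (by norm_num) P
      obtain ⟨v, hv⟩ := exists_ne (1 : V)
      refine hv (S3992.eq_one_of_fpf_frobenius (p := 2) (q := 7) (r := 3) h2 h7 h3 (by norm_num) (by norm_num)
        h21 ((P : Subgroup M).subgroupOf K) hC (fun k _ e => ?_) hVp ((φ.comp M.subtype).comp K.subtype)
        (fun k hk w hw => ?_) v)
      · have := ((hQ.subgroup M).subgroup K).eq_prime h7 h3 (x := k) (e ▸ dvd_mul_right 7 3)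
          (e ▸ dvd_mul_left 3 7)
        norm_num at this
      · obtain ⟨s, hs, hsd⟩ := Nat.exists_prime_and_dvd (fun e => hk (orderOf_eq_one_iff.1 e) : orderOf k ≠ 1)
        refine hφ ((k : M) : G ⧸ Cfsg.pCore 2 G) s hs ?_ (by rwa [Subgroup.orderOf_coe, Subgroup.orderOf_coe]) w hw
        rintro rfl
        have := hsd.trans (h21 ▸ orderOf_dvd_natCard k)
        norm_num at this
    exact ⟨(((QuotientGroup.quotientMulEquivOfEq hcore0).trans QuotientGroup.quotientBot).symm.trans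
      ((MulEquiv.subgroupCongr htop).trans Subgroup.topEquiv).symm).trans e⟩
  · refine ⟨?_, fun _ => Or.inr ⟨Cfsg.pCore 2 G, Core.pCore_normal, Core.pCore_isPGroup, F, iF, iFF, ?_⟩⟩
    · rcases hsz with h' | h'
      · have := card_le_of_subset (n := Nat.card G) (S := insert 2 (insert 5 (insert 7 (insert 13 ∅)))) fun r hr hd =>
          (show ∀ r : ℕ, r.Prime → r ∣ 2 ^ 6 * (5 ^ 1 * (7 ^ 1 * (13 ^ 1 * 1))) → r ∈ _ from
            subset_insert_of_dvd h2 (subset_insert_of_dvd h5 (subset_insert_of_dvd h7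
              (subset_insert_of_dvd (by norm_num : Nat.Prime 13) primes_one 1) 1) 1) 6) r hr
            (by norm_num; exact h' ▸ hprimes r hr hd)
        simpa using this
      · have := card_le_of_subset (n := Nat.card G) (S := insert 2 (insert 5 (insert 31 (insert 41 ∅)))) fun r hr hd =>
          (show ∀ r : ℕ, r.Prime → r ∣ 2 ^ 10 * (5 ^ 2 * (31 ^ 1 * (41 ^ 1 * 1))) → r ∈ _ from
            subset_insert_of_dvd h2 (subset_insert_of_dvd h5 (subset_insert_of_dvd (by norm_num : Nat.Prime 31)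
              (subset_insert_of_dvd (by norm_num : Nat.Prime 41) primes_one 1) 1) 2) 10) r hr
            (by norm_num; exact h' ▸ hprimes r hr hd)
        simpa using this
    have htop := eq_top_of_card hQ M (Or.inr hsz)
    let ε : G ⧸ Cfsg.pCore 2 G ≃* M := ((MulEquiv.subgroupCongr htop).trans Subgroup.topEquiv).symm
    rcases hFe with ⟨h8, ⟨e⟩⟩ | ⟨h32, ⟨e⟩⟩
    · exact Or.inl ⟨h8, ⟨ε.trans e⟩⟩
    · exact Or.inr ⟨h32, ⟨ε.trans e⟩⟩

/-- the simple case in the form of the classical theorem -/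
theorem simple_case
    (hcls : ∀ (T : Type u) [Group T] [Finite T] [IsSimpleGroup T], (∃ a b : T, a * b ≠ b * a) →
      PrimeGraphCIT.CIT T → PrimeGraphCIT.CITList T)
    {G : Type u} [Group G] [Finite G] [IsSimpleGroup G] (hG : ¬ IsMulCommutative G) (h : S3992.EPPO G) :
    Nonempty (G ≃* alternatingGroup (Fin 6)) ∨
    (∃ (F : Type) (_ : Field F) (_ : Fintype F), Fintype.card F ∈ ({4, 7, 8, 17} : Finset ℕ) ∧
      Nonempty (G ≃* Matrix.ProjectiveSpecialLinearGroup (Fin 2) F)) ∨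
    (∃ (F : Type) (_ : Field F) (_ : Fintype F), Fintype.card F = 4 ∧
      Nonempty (G ≃* Matrix.ProjectiveSpecialLinearGroup (Fin 3) F)) ∨
    (∃ (F : Type) (_ : Field F) (_ : Fintype F),
      (Fintype.card F = 8 ∧ Nonempty (G ≃* ↥(Cfsg.Lie.Sz F 4))) ∨
        (Fintype.card F = 32 ∧ Nonempty (G ≃* ↥(Cfsg.Lie.Sz F 8)))) := by
  have hna : ∃ a b : G, a * b ≠ b * a := by
    by_contra! hall
    exact hG ⟨⟨hall⟩⟩
  rcases simple_list hcls hna h with ⟨F, iF, iFF, hF, ⟨e⟩⟩ | h' | h'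
  · simp only [Finset.mem_insert, Finset.mem_singleton] at hF
    rcases hF with h' | h' | h' | h' | h'
    · exact Or.inr (Or.inl ⟨F, iF, iFF, by simp [h'], ⟨e⟩⟩)
    · exact Or.inr (Or.inl ⟨F, iF, iFF, by simp [h'], ⟨e⟩⟩)
    · exact Or.inr (Or.inl ⟨F, iF, iFF, by simp [h'], ⟨e⟩⟩)
    · obtain ⟨f⟩ := Cfsg.Agent.S0254.result h'
      exact Or.inl ⟨e.trans f⟩
    · exact Or.inr (Or.inl ⟨F, iF, iFF, by simp [h'], ⟨e⟩⟩)
  · exact Or.inr (Or.inr (Or.inl h'))
  · exact Or.inr (Or.inr (Or.inr h'))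

end Cfsg.Agent.EPPOClass
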