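import Cfsg.Agent.EPPOClass.Arith
import Cfsg.Agent.CITSolv.L27
import Cfsg.Agent.PrimeGraphCIT.Frame
import Cfsg.Agent.PrimeGraphCIT.Cases
import Cfsg.Agent.S0252
import Cfsg.Agent.S0253
import Cfsg.Agent.S0333
import Cfsg.Agent.S3992

/-!
Simple groups with all element orders prime powers, given the classification of simple CIT-groups.
-/

set_option autoImplicit false
set_option linter.style.haveILetI false
set_option linter.unusedSectionVars false

open Subgroup

namespace Cfsg.Agent.EPPOClass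

universe u

/-- the simple groups with all element orders prime powers -/
def SimpleList (T : Type u) [Group T] : Prop :=
  (∃ (F : Type) (_ : Field F) (_ : Fintype F), Fintype.card F ∈ ({4, 7, 8, 9, 17} : Finset ℕ) ∧
      Nonempty (T ≃* Matrix.ProjectiveSpecialLinearGroup (Fin 2) F)) ∨
    (∃ (F : Type) (_ : Field F) (_ : Fintype F), Fintype.card F = 4 ∧
      Nonempty (T ≃* Matrix.ProjectiveSpecialLinearGroup (Fin 3) F)) ∨
    (∃ (F : Type) (_ : Field F) (_ : Fintype F),
      (Fintype.card F = 8 ∧ Nonempty (T ≃* ↥(Cfsg.Lie.Sz F 4))) ∨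
        (Fintype.card F = 32 ∧ Nonempty (T ≃* ↥(Cfsg.Lie.Sz F 8))))

theorem cit_of_eppo {G : Type*} [Group G] [Finite G] (h : S3992.EPPO G) : PrimeGraphCIT.CIT G := by
  intro t ht g
  rcases eq_or_ne g 1 with rfl | hg
  · exact ⟨0, by simp⟩
  have hg' : (g : G) ≠ 1 := fun e => hg (Subtype.ext e)
  obtain ⟨q, i, hq, hi, hqi⟩ := (isPrimePow_nat_iff _).1 (h _ hg')
  by_cases hq2 : q = 2
  · refine ⟨i, Subtype.ext ?_⟩
    rw [coe_pow, ← hq2, hqi, pow_orderOf_eq_one]
    rfl
  · exact (h.no_commute hq Nat.prime_two hq2 hqi.symm hi.ne' (j := 1) (by rw [ht, pow_one]) one_ne_zero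
      (mem_centralizer_singleton_iff.1 g.2)).elim

theorem solvable_of_small_card {G : Type*} [Group G] [Finite G] (h : Nat.card G = 6 ∨ Nat.card G = 12) :
    Group.IsSolvable G := by
  rcases h with h | h
  · exact S0144.result 2 3 1 1 Nat.prime_two Nat.prime_three (by omega)
  · exact S0144.result 2 3 2 1 Nat.prime_two Nat.prime_three (by omega)

theorem not_solvable_of_simple {G : Type*} [Group G] [IsSimpleGroup G] (hna : ∃ a b : G, a * b ≠ b * a) :
    ¬ Group.IsSolvable G := by
  obtain ⟨a, b, hab⟩ := hna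
  exact fun hs => hab (IsSimpleGroup.comm_iff_isSolvable.2 hs a b)

theorem simple_list
    (hcls : ∀ (T : Type u) [Group T] [Finite T] [IsSimpleGroup T], (∃ a b : T, a * b ≠ b * a) →
      PrimeGraphCIT.CIT T → PrimeGraphCIT.CITList T)
    {T : Type u} [Group T] [Finite T] [IsSimpleGroup T] (hna : ∃ a b : T, a * b ≠ b * a) (h : S3992.EPPO T) :
    SimpleList T := by
  classical
  have hns := not_solvable_of_simple hna
  rcases hcls T hna (cit_of_eppo h) with ⟨F, iF, iFF, hq, ⟨e⟩⟩ | h34 | ⟨F, iF, iFF, m, hm, hF, ⟨e⟩⟩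
  · have hcard := CITSolv.card_psl_two (F := F) (q := Fintype.card F) rfl
    rw [← Nat.card_congr e.toEquiv] at hcard
    have hq4 : 4 ≤ Fintype.card F := by
      by_contra hlt
      have := Fintype.one_lt_card (α := F)
      rcases (by omega : Fintype.card F = 2 ∨ Fintype.card F = 3) with h2 | h2 <;> rw [h2] at hcard <;>
        norm_num at hcard
      · exact hns (solvable_of_small_card (Or.inl hcard))
      · exact hns (solvable_of_small_card (Or.inr (by omega)))
    obtain ⟨⟨x, hx⟩, ⟨y, hy⟩⟩ := CITSolv.exists_torus (F := F) hq4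
    have hpp : ∀ (z : Matrix.ProjectiveSpecialLinearGroup (Fin 2) F), orderOf z ≠ 1 → IsPrimePow (orderOf z) := by
      intro z hz
      rw [← e.symm.orderOf_eq z] at hz ⊢
      exact h _ fun e' => hz (by rw [e', orderOf_one])
    rcases hq with h9 | ⟨n, hn⟩ | ⟨hp, k, hk⟩
    · exact Or.inl ⟨F, iF, iFF, by simp [h9], ⟨e⟩⟩
    · rw [hn, show Nat.gcd 2 (2 ^ n - 1) = 1 from Nat.prime_two.coprime_iff_not_dvd.2 (by
        have h2 : 2 ∣ 2 ^ n := dvd_pow_self 2 (by rintro rfl; rw [hn, pow_zero] at hq4; omega)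
        omega), Nat.div_one] at hx hy
      rw [hn] at hq4
      have hn2 : n = 2 ∨ n = 3 := by
        have hmod : 2 ^ n % 3 = 1 ∨ 2 ^ n % 3 = 2 := by
          have : ¬ 3 ∣ 2 ^ n := fun hd =>
            absurd ((Nat.prime_dvd_prime_iff_eq Nat.prime_three Nat.prime_two).1
              (Nat.prime_three.dvd_of_dvd_pow hd)) (by norm_num)
          omega
        rcases hmod with hd | hd
        · obtain ⟨a, -, ha⟩ := eq_pow_of_dvd Nat.prime_three (hpp x (by rw [hx]; omega)) (by rw [hx]; omega)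
          rw [hx] at ha
          rcases two_pow_eq_three_pow_add_one (n := n) (a := a) (by omega) with rfl | rfl
          · norm_num at hq4
          · exact Or.inl rfl
        · obtain ⟨a, -, ha⟩ := eq_pow_of_dvd Nat.prime_three (hpp y (by rw [hy]; omega)) (by rw [hy]; omega)
          rw [hy] at ha
          rcases two_pow_add_one_eq_three_pow (n := n) (a := a) ha with rfl | rfl
          · norm_num at hq4
          · exact Or.inr rfl
      exact Or.inl ⟨F, iF, iFF, by rcases hn2 with rfl | rfl <;> simp [hn], ⟨e⟩⟩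
    · by_cases h5 : Fintype.card F = 5
      · haveI : Fintype (GaloisField 2 2) := Fintype.ofFinite _
        have hK : Fintype.card (GaloisField 2 2) = 4 := by
          rw [← Nat.card_eq_fintype_card, GaloisField.card 2 2 (by norm_num)]; norm_num
        obtain ⟨f⟩ := Cfsg.Agent.S0253.result h5
        obtain ⟨g⟩ := Cfsg.Agent.S0252.result hK
        exact Or.inl ⟨GaloisField 2 2, inferInstance, inferInstance, by simp [hK], ⟨(e.trans f).trans g.symm⟩⟩
      refine Or.inl ⟨F, iF, iFF, ?_, ⟨e⟩⟩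
      have hodd : Fintype.card F % 2 = 1 := Nat.odd_iff.1 (hp.odd_of_ne_two (by omega))
      rw [show Nat.gcd 2 (Fintype.card F - 1) = 2 from Nat.gcd_eq_left (by omega)] at hx hy
      rcases k with _ | k
      · rw [pow_zero] at hk; omega
      rw [pow_succ] at hk
      rcases hk with hk | hk
      · have hy' : orderOf y = 2 ^ k + 1 := by rw [hy]; omega
        have hd : 3 ∣ 2 ^ k + 1 := by
          have hne : ¬ 3 ∣ Fintype.card F := fun hd => by
            have := (Nat.prime_dvd_prime_iff_eq Nat.prime_three hp).1 hd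
            omega
          have h2 : ¬ 3 ∣ 2 ^ k := fun hd =>
            absurd ((Nat.prime_dvd_prime_iff_eq Nat.prime_three Nat.prime_two).1
              (Nat.prime_three.dvd_of_dvd_pow hd)) (by norm_num)
          rcases (by omega : 2 ^ k % 3 = 1 ∨ 2 ^ k % 3 = 2) with h' | h' <;> omega
        obtain ⟨a, -, ha⟩ := eq_pow_of_dvd Nat.prime_three (hpp y (by rw [hy']; omega)) (hy' ▸ hd)
        rw [hy'] at ha
        rcases two_pow_add_one_eq_three_pow ha with rfl | rfl
        · omega
        · simp [hk]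
      · have hx' : orderOf x = 2 ^ k - 1 := by rw [hx]; omega
        have hne : ¬ 3 ∣ Fintype.card F := fun hd => by
          have := (Nat.prime_dvd_prime_iff_eq Nat.prime_three hp).1 hd
          omega
        have h2 : ¬ 3 ∣ 2 ^ k := fun hd =>
          absurd ((Nat.prime_dvd_prime_iff_eq Nat.prime_three Nat.prime_two).1
            (Nat.prime_three.dvd_of_dvd_pow hd)) (by norm_num)
        obtain ⟨a, -, ha⟩ := eq_pow_of_dvd Nat.prime_three (hpp x (by rw [hx']; omega)) (by
          rw [hx']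
          rcases (by omega : 2 ^ k % 3 = 1 ∨ 2 ^ k % 3 = 2) with h' | h' <;> omega)
        rw [hx'] at ha
        rcases two_pow_eq_three_pow_add_one (n := k) (a := a) (by
          have := Nat.one_le_two_pow (n := k); omega) with rfl | rfl
        · omega
        · simp [show Fintype.card F = 7 by norm_num at hk; omega]
  · exact Or.inr (Or.inl h34)
  · obtain ⟨f⟩ := Suzuki.nonempty_equiv hm hF
    have hm2 : m ≤ 2 := by
      have hle : 2 ^ (m + 1) ≤ 2 ^ (2 * m + 1) := Nat.pow_le_pow_right two_pos (by omega)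
      have h5 : 5 ∣ (2 ^ (2 * m + 1) + 2 ^ (m + 1) + 1) * (2 ^ (2 * m + 1) - 2 ^ (m + 1) + 1) := by
        have h16 : 16 ^ m % 5 = 1 := by rw [Nat.pow_mod]; norm_num
        have e1 : (2 ^ (2 * m + 1) + 2 ^ (m + 1) + 1) * (2 ^ (2 * m + 1) - 2 ^ (m + 1) + 1) = 4 * 16 ^ m + 1 := by
          zify [hle]
          rw [show (16 : ℤ) = 2 ^ 4 by norm_num, ← pow_mul]
          ring
        rw [e1]
        omega
      rcases (by norm_num : Nat.Prime 5).dvd_mul.1 h5 with hd | hd
      · obtain ⟨U, hU, hUc, -⟩ := Cfsg.Agent.S0333.result hm hF _ (Set.mem_insert _ _)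
        obtain ⟨u, hu⟩ := hU.exists_generator
        have hu' : orderOf ((e.symm (f (u : Cfsg.Sz F m))) : T) = 2 ^ (2 * m + 1) + 2 ^ (m + 1) + 1 := by
          rw [MulEquiv.orderOf_eq, MulEquiv.orderOf_eq, Subgroup.orderOf_coe,
            orderOf_eq_card_of_forall_mem_zpowers hu, hUc]
        obtain ⟨a, ha, ha'⟩ := eq_pow_of_dvd (by norm_num : Nat.Prime 5) (h _ fun e' => by
          rw [e', orderOf_one] at hu'; omega) (hu' ▸ hd)
        exact suzuki_five hm ha (Or.inl (hu'.symm.trans ha'))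
      · obtain ⟨U, hU, hUc, -⟩ := Cfsg.Agent.S0333.result hm hF _ (Set.mem_insert_of_mem _ rfl)
        obtain ⟨u, hu⟩ := hU.exists_generator
        have hlt : 2 ^ (m + 1) < 2 ^ (2 * m + 1) := Nat.pow_lt_pow_right one_lt_two (by omega)
        have hu' : orderOf ((e.symm (f (u : Cfsg.Sz F m))) : T) = 2 ^ (2 * m + 1) - 2 ^ (m + 1) + 1 := by
          rw [MulEquiv.orderOf_eq, MulEquiv.orderOf_eq, Subgroup.orderOf_coe,
            orderOf_eq_card_of_forall_mem_zpowers hu, hUc]
        obtain ⟨a, ha, ha'⟩ := eq_pow_of_dvd (by norm_num : Nat.Prime 5) (h _ fun e' => by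
          rw [e', orderOf_one] at hu'; omega) (hu' ▸ hd)
        exact suzuki_five hm ha (Or.inr (hu'.symm.trans ha'))
    rcases (by omega : m = 1 ∨ m = 2) with rfl | rfl
    · exact Or.inr (Or.inr ⟨F, iF, iFF, Or.inl ⟨hF, ⟨e⟩⟩⟩)
    · exact Or.inr (Or.inr ⟨F, iF, iFF, Or.inr ⟨hF, ⟨e⟩⟩⟩)

end Cfsg.Agent.EPPOClass
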